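import Groth.Agent.StabLib.Morph
import Groth.Agent.BoxSurjLib.Cut
import Groth.Agent.TFModLib.Tower
import Groth.Agent.EtaleChiLib.Clopen
import Groth.Agent.StratLib.Light
import Groth.Agent.SquareLib.Link

/-!
# Semistability and connected components
-/

set_option autoImplicit false
set_option linter.style.haveILetI false
set_option linter.unusedSectionVars false
set_option backward.isDefEq.respectTransparency false
set_option backward.isDefEq.respectTransparency.types false
set_option maxHeartbeats 1000000
set_option synthInstance.maxHeartbeats 400000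

universe u

open CategoryTheory CategoryTheory.Limits AlgebraicGeometry TopologicalSpace Opposite
open BoxSurjLib (cutMod cutη cutMap)
open StabLib

noncomputable section

namespace SSComp

variable {X : Scheme.{u}} (U : X.Opens)

theorem bijective_stalk (M : X.Modules) {x : X} (hx : x ∈ U) :
    Function.Bijective ((DerSch.stalkFunctor X x).map (cutη U M)).hom := BoxSurjLib.bijective_cut U M x hx

theorem support_cut_subset (hU : IsClosed (U : Set X)) (M : X.Modules) :
    CohB1.support (cutMod U M) ⊆ (U : Set X) := fun x hx => by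
  haveI := EtaleChiLib.isClosedImmersion_ι U hU
  obtain ⟨z, rfl⟩ := DevissLib.support_push_subset U.ι (M.restrict U.ι) hx
  exact z.2

theorem epi_cutη (hU : IsClosed (U : Set X)) (M : X.Modules) : Epi (cutη U M) :=
  TFModLib.epi_of_stalks _ fun x => by
    by_cases hx : x ∈ U
    · exact (bijective_stalk U M hx).2
    · haveI : Subsingleton ((cutMod U M).presheaf.stalk x) :=
        not_not.1 fun h => hx (support_cut_subset U hU M h)
      exact fun z => ⟨0, Subsingleton.elim (α := (cutMod U M).presheaf.stalk x) _ _⟩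

theorem mono_cutMap {M N : X.Modules} (φ : M ⟶ N) [Mono φ] : Mono (cutMap U φ) := by
  haveI : Mono ((Scheme.Modules.restrictFunctor U.ι).map φ) := inferInstance
  exact inferInstanceAs (Mono ((Scheme.Modules.pushforward U.ι).map ((Scheme.Modules.restrictFunctor U.ι).map φ)))

theorem cutη_naturality {M N : X.Modules} (φ : M ⟶ N) : φ ≫ cutη U N = cutη U M ≫ cutMap U φ :=
  (Scheme.Modules.restrictAdjunction U.ι).unit.naturality φ

theorem isCoh_cut [IsLocallyNoetherian X] (hU : IsClosed (U : Set X)) {M : X.Modules} (hM : Coh.IsCoh M) :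
    Coh.IsCoh (cutMod U M) := by
  haveI := EtaleChiLib.isClosedImmersion_ι U hU
  exact QCohLib.isCoh_push_finite U.ι _ (StratLib.isCoh_restrict U.ι hM)

theorem support_kernel_subset (M : X.Modules) :
    CohB1.support (kernel (cutη U M)) ⊆ CohB1.support M \ (U : Set X) := fun x hx => by
  refine ⟨DevissLib.support_mono (kernel.ι (cutη U M)) hx, fun hxU => hx ⟨fun a b => ?_⟩⟩
  have hi : Function.Injective ((DerSch.stalkFunctor X x).map (kernel.ι (cutη U M))).hom :=
    (ModuleCat.mono_iff_injective _).1 inferInstance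
  have hz : ∀ c, ((DerSch.stalkFunctor X x).map (cutη U M)).hom
      (((DerSch.stalkFunctor X x).map (kernel.ι (cutη U M))).hom c) = 0 := fun c => by
    have h := congrArg (fun φ => φ.hom c) (((DerSch.stalkFunctor X x).map_comp _ _).symm.trans
      (congrArg (DerSch.stalkFunctor X x).map (kernel.condition (cutη U M))))
    rw [Functor.map_zero] at h
    exact h
  exact hi ((bijective_stalk U M hxU).1 ((hz a).trans (hz b).symm))

variable {k : Type u} [Field k] [X.Over (Spec (CommRingCat.of k))] [IsProper (X ↘ Spec (CommRingCat.of k))]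
  {L : X.Modules} (hA : CohB1.IsAmple L)

include hA in
theorem alpha_hPoly_nonneg (hdim : topologicalKrullDim X ≤ (1 : ℕ)) {M : X.Modules} (hM : Coh.IsCoh M) :
    0 ≤ StabCat.alpha 1 (HPoly k L M) :=
  alpha_nonneg (d := 1) (hPoly_deg hA hM ((topologicalKrullDim_subspace_le X _).trans hdim)) (hPoly_nn hA hM)

include hA in
theorem redEq_iff_euler (hdim : topologicalKrullDim X ≤ (1 : ℕ)) {M N : X.Modules} (hM : Coh.IsCoh M)
    (hN : Coh.IsCoh N) :
    dd 1 (HPoly k L M) (HPoly k L N) = 0 ↔
      Curv2.euler k X M * (Curv2.euler k X (CohB1.tensorMod N L) - Curv2.euler k X N) =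
        Curv2.euler k X N * (Curv2.euler k X (CohB1.tensorMod M L) - Curv2.euler k X M) := by
  have key : ∀ {P : X.Modules} (hP : Coh.IsCoh P), (HPoly k L P).coeff 0 = Curv2.euler k X P ∧
      (HPoly k L P).coeff 1 = Curv2.euler k X (CohB1.tensorMod P L) - Curv2.euler k X P ∧
      (HPoly k L P).natDegree ≤ 1 := fun {P} hP => by
    have hs := hPoly_spec (k := k) hA hP
    have hd := hPoly_deg (k := k) hA hP ((topologicalKrullDim_subspace_le X _).trans hdim)
    have h0 := hs 0
    have h1 := hs 1
    rw [show Curv2.euler k X (ShStab.twist X L P 0) = Curv2.euler k X P from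
      CurvLib.euler_congr (HilbPolyLib.swapIso P (Coh.structureModule X) ≪≫ KFlatLib.tensUnitIso P)] at h0
    rw [show Curv2.euler k X (ShStab.twist X L P 1) = Curv2.euler k X (CohB1.tensorMod P L) from
      CurvLib.euler_congr (HilbPolyLib.swapIso P _ ≪≫ HilbPolyLib.congrLeft (KFlatLib.tensUnitIso L) P ≪≫
        HilbPolyLib.swapIso L P)] at h1
    rw [Polynomial.eq_X_add_C_of_natDegree_le_one hd] at h0 h1
    simp at h0 h1
    exact ⟨h0.symm, by rw [h1, h0]; ring, hd⟩
  obtain ⟨a0, a1, a2⟩ := key hM
  obtain ⟨b0, b1, b2⟩ := key hN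
  constructor
  · intro h
    have h' := congrArg (fun R : Polynomial ℚ => R.coeff 0) h
    simp [dd, StabCat.alpha, a0, a1, b0, b1] at h'
    have : ((Curv2.euler k X M * (Curv2.euler k X (CohB1.tensorMod N L) - Curv2.euler k X N) : ℤ) : ℚ) =
        ((Curv2.euler k X N * (Curv2.euler k X (CohB1.tensorMod M L) - Curv2.euler k X M) : ℤ) : ℚ) := by
      push_cast
      linarith
    exact_mod_cast this
  · intro h
    have h' : (Curv2.euler k X M : ℚ) * (Curv2.euler k X (CohB1.tensorMod N L) - Curv2.euler k X N) =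
        Curv2.euler k X N * (Curv2.euler k X (CohB1.tensorMod M L) - Curv2.euler k X M) := by exact_mod_cast h
    ext i
    match i with
    | 0 => simp [dd, StabCat.alpha, a0, a1, b0, b1]; linarith
    | 1 => simp [dd, StabCat.alpha, a1, b1]; ring
    | (j + 2) =>
      simp [dd, Polynomial.coeff_eq_zero_of_natDegree_lt (show (HPoly k L M).natDegree < j + 2 by omega),
        Polynomial.coeff_eq_zero_of_natDegree_lt (show (HPoly k L N).natDegree < j + 2 by omega)]

variable (hdim : topologicalKrullDim X ≤ (1 : ℕ)) {E : X.Modules} (hE : Coh.IsCoh E)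

include hA hdim in
/-- The summand on a closed open set of a semistable sheaf. -/
theorem semistable_cut {E : X.Modules} (hs : ShStab.IsSemistable k X L E 1) (hU : IsClosed (U : Set X))
    (h0 : ¬ IsZero (cutMod U E)) :
    ShStab.IsSemistable k X L (cutMod U E) 1 ∧ dd 1 (HPoly k L (cutMod U E)) (HPoly k L E) = 0 := by
  haveI : IsNoetherian X := CurvLib.isNoetherian k (X := X)
  have hE := hs.1
  let V : X.Opens := ⟨(U : Set X)ᶜ, hU.isOpen_compl⟩
  have hV : IsClosed (V : Set X) := U.2.isClosed_compl
  haveI := epi_cutη U hU E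
  haveI := epi_cutη V hV E
  have hc := isCoh_cut U hU hE
  let s : kernel (cutη V E) ⟶ cutMod U E := kernel.ι _ ≫ cutη U E
  haveI : IsIso s := KFlatLib.isIso_of_stalks s fun x => by
    refine (ConcreteCategory.isIso_iff_bijective _).2 ?_
    by_cases hx : x ∈ U
    · haveI : Subsingleton ((cutMod V E).presheaf.stalk x) :=
        not_not.1 fun h => (support_cut_subset V hV E h) hx
      have hS : (ShortComplex.mk (kernel.ι (cutη V E)) (cutη V E) (kernel.condition _)).Exact :=
        ShortComplex.exact_of_f_is_kernel _ (kernelIsKernel _)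
      have hi : Function.Injective ((DerSch.stalkFunctor X x).map (kernel.ι (cutη V E))).hom :=
        (ModuleCat.mono_iff_injective _).1 inferInstance
      have hS' := hS.map (DerSch.stalkFunctor X x)
      rw [ShortComplex.moduleCat_exact_iff] at hS'
      have hsur : Function.Surjective ((DerSch.stalkFunctor X x).map (kernel.ι (cutη V E))).hom := fun z =>
        hS' z (Subsingleton.elim (α := (cutMod V E).presheaf.stalk x) _ _)
      rw [Functor.map_comp]
      exact (bijective_stalk U E hx).comp ⟨hi, hsur⟩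
    · haveI h1 : Subsingleton ((cutMod U E).presheaf.stalk x) :=
        not_not.1 fun h => hx (support_cut_subset U hU E h)
      haveI h2 : Subsingleton ((kernel (cutη V E)).presheaf.stalk x) :=
        not_not.1 fun h => (support_kernel_subset V E h).2 hx
      exact ⟨fun a b _ => Subsingleton.elim (α := (kernel (cutη V E)).presheaf.stalk x) a b,
        fun z => ⟨0, Subsingleton.elim (α := (cutMod U E).presheaf.stalk x) _ _⟩⟩
  let j : cutMod U E ⟶ E := inv s ≫ kernel.ι _
  have h₁ := sub_le hA hs j hc
  have h₂ := quot_ge hA hs (cutη U E) hc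
  rw [dd_swap] at h₂
  have heq : dd 1 (HPoly k L (cutMod U E)) (HPoly k L E) = 0 := h₁.eq_zero_of_neg h₂
  refine ⟨⟨hc, h0, fun F ι hι hF hF0 => hs.2.2.1 F (ι ≫ j) inferInstance hF hF0,
    fun F ι hι hF hF0 _ => ?_⟩, heq⟩
  haveI := hι
  refine (redLE_hPoly_iff hA hF hc).2 ?_
  refine dd_trans (d := 1) (alpha_hPoly_nonneg hA hdim hF)
    (alpha_pos_of_pure hA hs.2.2.1 (𝟙 E) hE hs.2.1) (alpha_hPoly_nonneg hA hdim hc)
    (sub_le hA hs (ι ≫ j) hF) ?_
  rw [dd_swap, heq, neg_zero]
  exact nn_zero

include hA hdim hE in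
/-- A sheaf whose parts on the components are semistable with one reduced polynomial is semistable. -/
theorem semistable_of_cut (hE0 : ¬ IsZero E)
    (h : ∀ U : X.Opens, IsClopen (U : Set X) → _root_.IsConnected (U : Set X) → ¬ IsZero (cutMod U E) →
      ShStab.IsSemistable k X L (cutMod U E) 1 ∧ dd 1 (HPoly k L (cutMod U E)) (HPoly k L E) = 0) :
    ShStab.IsSemistable k X L E 1 := by
  haveI : IsNoetherian X := CurvLib.isNoetherian k (X := X)
  haveI := SquareLib.locallyConnected X
  have comp : ∀ {G : X.Modules} (ι : G ⟶ E) [Mono ι], Coh.IsCoh G → ∀ x ∈ CohB1.support G,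
      ∃ U : X.Opens, x ∈ U ∧ IsClosed (U : Set X) ∧ ¬ IsZero (cutMod U G) ∧ ¬ IsZero (cutMod U E) ∧
        IsClopen (U : Set X) ∧ _root_.IsConnected (U : Set X) := fun {G} ι _ hG x hx => by
    let U : X.Opens := ⟨connectedComponent x, isOpen_connectedComponent⟩
    have hxU : x ∈ U := mem_connectedComponent
    have hG0 : ¬ IsZero (cutMod U G) := fun hz => hx (by
      haveI : Subsingleton ((DerSch.stalkFunctor X x).obj (cutMod U G)) :=
        ModuleCat.subsingleton_of_isZero ((DerSch.stalkFunctor X x).map_isZero hz)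
      exact (bijective_stalk U G hxU).1.subsingleton)
    haveI := mono_cutMap U ι
    exact ⟨U, hxU, isClosed_connectedComponent, hG0, fun hz => hG0 (IsZero.of_mono (cutMap U ι) hz),
      ⟨isClosed_connectedComponent, isOpen_connectedComponent⟩, isConnected_connectedComponent⟩
  have hp : ShStab.IsPure X E 1 := fun G ι hι hG h0 => by
    haveI := hι
    obtain ⟨x, hx⟩ : (CohB1.support G).Nonempty :=
      Set.nonempty_iff_ne_empty.2 fun he => h0 (DevissLib.isZero_of_support_empty he)
    obtain ⟨U, -, hUc, hG0, hE0', hcl, hcn⟩ := comp ι hG x hx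
    haveI := mono_cutMap U ι
    haveI := epi_cutη U hUc G
    have hd := (h U hcl hcn hE0').1.2.2.1 (cutMod U G) (cutMap U ι) inferInstance (isCoh_cut U hUc hG) hG0
    refine le_antisymm ((topologicalKrullDim_subspace_le X _).trans hdim) ?_
    rw [← hd]
    exact dim_mono (DevissLib.support_epi (cutη U G))
  have key : ∀ (C : Closeds X) (G : X.Modules) (ι : G ⟶ E), Mono ι → Coh.IsCoh G →
      CohB1.support G ⊆ (C : Set X) → Nn (dd 1 (HPoly k L G) (HPoly k L E)) := by
    intro C
    induction C using WellFoundedLT.induction with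
    | _ C ih =>
      intro G ι hι hG hC
      by_cases h0 : IsZero G
      · rw [hPoly_zero hA h0, dd_zero_left]; exact nn_zero
      obtain ⟨x, hx⟩ : (CohB1.support G).Nonempty :=
        Set.nonempty_iff_ne_empty.2 fun he => h0 (DevissLib.isZero_of_support_empty he)
      obtain ⟨U, hxU, hUc, hG0, hE0', hcl, hcn⟩ := comp ι hG x hx
      haveI := epi_cutη U hUc G
      haveI := mono_cutMap U ι
      obtain ⟨hss, heq⟩ := h U hcl hcn hE0'
      have hcG := isCoh_cut U hUc hG
      rw [hPoly_ker (k := k) hA (cutη U G) hG hcG, dd_add_left]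
      refine Nn.add (ih ⟨(C : Set X) \ (U : Set X), C.isClosed.sdiff U.2⟩ ?_ _ (kernel.ι _ ≫ ι) inferInstance
        (QCohLib.isCoh_kernel _ hG hcG.1) fun y hy => ⟨hC (support_kernel_subset U G hy).1,
          (support_kernel_subset U G hy).2⟩) ?_
      · exact lt_of_le_of_ne (fun y hy => hy.1) fun he => ((SetLike.ext_iff.1 he x).2 (hC hx)).2 hxU
      · refine dd_trans (d := 1) (alpha_hPoly_nonneg hA hdim hcG)
          (alpha_pos_of_pure hA hss.2.2.1 (𝟙 _) hss.1 hss.2.1) (alpha_hPoly_nonneg hA hdim hE)
          (sub_le hA hss (cutMap U ι) hcG) ?_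
        rw [heq]
        exact nn_zero
  exact ⟨hE, hE0, hp, fun G ι hι hG _ _ => (redLE_hPoly_iff hA hG hE).2 (key ⊤ G ι hι hG (Set.subset_univ _))⟩

end SSComp
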